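import Groth.Agent.FamTors.Torsion
import Groth.Agent.KInj.Existence
import Groth.Agent.KInj.Ops
import Groth.Agent.KInj.Adjunction
import Groth.Agent.KFlat.Site

/-!
# `RΓ` for a family of ideals through complexes with adapted stalks
-/

universe u

open CategoryTheory CategoryTheory.Limits TopologicalSpace Opposite
open Groth.Agent.FSchTors (stA isIso_of_stA)

set_option autoImplicit false
set_option backward.isDefEq.respectTransparency false
set_option backward.isDefEq.respectTransparency.types false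
set_option linter.style.haveILetI false

attribute [local instance] HasDerivedCategory.standard

noncomputable section

namespace Groth.Agent.FamTors

variable {X : TopCat.{u}} {O : TopCat.Sheaf CommRingCat.{u} X} {I : FTors.IdealFam O} (D : Datum I)

/-- the image of a complex in the derived category, through the homotopy category -/
abbrev qh (J : CochainComplex (ModSite.Mod O) ℤ) : DerivedCategory (ModSite.Mod O) :=
  DerivedCategory.Qh.obj ((HomotopyCategory.quotient (ModSite.Mod O) (ComplexShape.up ℤ)).obj J)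

/-- maps of complexes in the derived category -/
abbrev qhm {J J' : CochainComplex (ModSite.Mod O) ℤ} (f : J ⟶ J') : qh J ⟶ qh J' :=
  DerivedCategory.Qh.map ((HomotopyCategory.quotient (ModSite.Mod O) (ComplexShape.up ℤ)).map f)

lemma isIso_qhm {J J' : CochainComplex (ModSite.Mod O) ℤ} (f : J ⟶ J') [QuasiIso f] : IsIso (qhm f) :=
  (NatIso.isIso_map_iff (DerivedCategory.quotientCompQhIso (ModSite.Mod O)) f).2 inferInstance

include D in
theorem exists_kinj (K : CochainComplex (ModSite.Mod O) ℤ) :
    ∃ (J : CochainComplex (ModSite.Mod O) ℤ) (u : K ⟶ J),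
      J.IsKInjective ∧ QuasiIso u ∧ SA D J ∧ ∀ i, Injective (J.X i) := by
  haveI : IsGrothendieckAbelian.{u} (ModSite.Mod O) := KFlat.isGrothendieck O
  obtain ⟨J, u, h1, h2, -, h3⟩ := KInj.exists_kInjective K
  exact ⟨J, u, h1, h2, sa_of_injective D h3, h3⟩

include D in
theorem exists_rep (K : DerivedCategory (ModSite.Mod O)) :
    ∃ J : CochainComplex (ModSite.Mod O) ℤ,
      J.IsKInjective ∧ SA D J ∧ (∀ i, Injective (J.X i)) ∧ Nonempty (qh J ≅ K) := by
  obtain ⟨J, u, h1, h2, h3, h4⟩ := exists_kinj D (DerivedCategory.Q.objPreimage K)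
  exact ⟨J, h1, h3, h4, ⟨(DerivedCategory.quotientCompQhIso (ModSite.Mod O)).app J ≪≫
    (asIso (DerivedCategory.Q.map u)).symm ≪≫ DerivedCategory.Q.objObjPreimageIso K⟩⟩

include D in
lemma isDeforming : KInj.IsDeforming (DerivedCategory.Qh : _ ⥤ DerivedCategory (ModSite.Mod O))
    (FTors.gammaKh I) (KInj.kinjProp (ModSite.Mod O)) :=
  KInj.isDeforming_Qh (fun K => by obtain ⟨J, u, h1, h2, -⟩ := exists_kinj D K; exact ⟨J, u, h1, h2⟩) _

include D in
theorem hasRgamma : FTors.HasRgamma I :=
  (isDeforming D).hasRightDerivedFunctor _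

/-- the torsion property of a complex's cohomology, for the image in the derived category -/
theorem isDTors_iff {J : CochainComplex (ModSite.Mod O) ℤ} {K : DerivedCategory (ModSite.Mod O)}
    (e : qh J ≅ K) : FTors.IsDTors I K ↔ ∀ i, FTors.IsTors I (J.homology i) := by
  refine forall_congr' fun i => ?_
  let f : (DerivedCategory.homologyFunctor (ModSite.Mod O) i).obj K ≅ J.homology i :=
    (DerivedCategory.homologyFunctor (ModSite.Mod O) i).mapIso
      (e.symm ≪≫ (DerivedCategory.quotientCompQhIso (ModSite.Mod O)).app J) ≪≫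
      (DerivedCategory.homologyFunctorFactors (ModSite.Mod O) i).app J
  exact ⟨fun h => isTors_of_iso f.symm h, fun h => isTors_of_iso f h⟩

/-- `Qh (Γ' J)` -/
abbrev qg (I : FTors.IdealFam O) (J : CochainComplex (ModSite.Mod O) ℤ) : DerivedCategory (ModSite.Mod O) :=
  (FTors.gammaKh I).obj
    ((HomotopyCategory.quotient (ModSite.Mod O) (ComplexShape.up ℤ)).obj J)

lemma gammaτ_app (J : CochainComplex (ModSite.Mod O) ℤ) :
    (FTors.gammaτ I).app
        ((HomotopyCategory.quotient (ModSite.Mod O) (ComplexShape.up ℤ)).obj J) = qhm (gι I J) := by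
  refine ((Category.id_comp _).trans ?_)
  rw [show gι I J = (NatTrans.mapHomologicalComplex (FTors.gammaι I)
      (ComplexShape.up ℤ)).app J ≫
    (Functor.mapHomologicalComplexIdIso (ModSite.Mod O) (ComplexShape.up ℤ)).hom.app J from
      HomologicalComplex.hom_ext _ _ fun _ => (Category.comp_id _).symm]
  simp only [qhm, Functor.map_comp]
  refine (congrArg (· ≫ _) ?_).trans (Category.id_comp _)
  exact DerivedCategory.Qh.map_id _

variable [FTors.HasRgamma I]

/-- the unit of `RΓ'` -/
abbrev gα (I : FTors.IdealFam O) [FTors.HasRgamma I] (J : CochainComplex (ModSite.Mod O) ℤ) :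
    qg I J ⟶ (FTors.Rgamma I).obj (qh J) :=
  ((FTors.gammaKh I).totalRightDerivedUnit DerivedCategory.Qh
      (HomotopyCategory.quasiIso (ModSite.Mod O) (ComplexShape.up ℤ))).app
    ((HomotopyCategory.quotient (ModSite.Mod O) (ComplexShape.up ℤ)).obj J)

lemma gα_natural {J J' : CochainComplex (ModSite.Mod O) ℤ} (f : J ⟶ J') :
    qhm (gm I f) ≫ gα I J' = gα I J ≫ (FTors.Rgamma I).map (qhm f) :=
  ((FTors.gammaKh I).totalRightDerivedUnit DerivedCategory.Qh
      (HomotopyCategory.quasiIso (ModSite.Mod O) (ComplexShape.up ℤ))).naturality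
    ((HomotopyCategory.quotient (ModSite.Mod O) (ComplexShape.up ℤ)).map f)

lemma gα_ε (J : CochainComplex (ModSite.Mod O) ℤ) :
    gα I J ≫ (FTors.Rgammaε I).app (qh J) = qhm (gι I J) := by
  rw [FTors.Rgammaε, gα, Functor.rightDerived_fac_app]
  rw [NatTrans.comp_app]
  refine Eq.trans ?_ (gammaτ_app J)
  exact (congrArg (_ ≫ ·) (NatTrans.congr_app rfl _)).trans (Category.comp_id _)

include D in
theorem isIso_gα_kinj (J : CochainComplex (ModSite.Mod O) ℤ) [J.IsKInjective] : IsIso (gα I J) :=
  (isDeforming D).isIso_app (HomotopyCategory.quasiIso (ModSite.Mod O) (ComplexShape.up ℤ)) _ _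
    (I := (HomotopyCategory.quotient _ _).obj J) (show J.IsKInjective from inferInstance)

/-- `RΓ'` is computed by complexes with injective stalks -/
theorem isIso_gα {J : CochainComplex (ModSite.Mod O) ℤ} (hJ : SA D J) : IsIso (gα I J) := by
  obtain ⟨J', u, h1, h2, h3, -⟩ := exists_kinj D J
  haveI := isIso_gα_kinj D J'
  haveI := isIso_qhm u
  haveI := quasiIso_gm D hJ h3 u
  haveI := isIso_qhm (gm I u)
  have : IsIso (gα I J ≫ (FTors.Rgamma I).map (qhm u)) := by
    rw [← gα_natural]; infer_instance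
  exact IsIso.of_isIso_comp_right (gα I J) ((FTors.Rgamma I).map (qhm u))

include D in
/-- `Γ` is idempotent on complexes -/
theorem isIso_gm_gι (J : CochainComplex (ModSite.Mod O) ℤ) : IsIso (gm I (gι I J)) :=
  haveI : ∀ i, IsIso ((gm I (gι I J)).f i) := fun i => isIso_of_stA _ fun x => by
    obtain ⟨U, hU, hxU⟩ := D.cover x
    refine ⟨U, hxU, ?_⟩
    haveI : IsIso ((DRing.gammaI (D.J U hU)).map ((stA O hxU).map ((gι I J).f i))) := by
      rw [ConcreteCategory.isIso_iff_bijective]
      refine ⟨fun a b h => Subtype.ext (stA_gammaι_injective hxU (J.X i) (congrArg Subtype.val h)), fun z => ?_⟩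
      obtain ⟨e, he⟩ := stA_gammaι_surjective D hU hxU (J.X i) z.1 z.2
      obtain ⟨n, hn⟩ := z.2
      exact ⟨⟨e, n, fun a ha => stA_gammaι_injective hxU (J.X i) (by
        rw [map_smul, map_zero, he]; exact hn a ha)⟩, Subtype.ext he⟩
    exact ((NatIso.isIso_map_iff (gammaIso D hU hxU) ((gι I J).f i))).2 ‹_›
  HomologicalComplex.Hom.isIso_of_components _

omit [FTors.HasRgamma I] in
/-- the torsion subcomplex of a complex of injectives is adapted -/
theorem sa_gc {J : CochainComplex (ModSite.Mod O) ℤ} (hJ : ∀ i, Injective (J.X i)) : SA D (gc I J) :=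
  fun {U} hU {x} hx s _ =>
    haveI := D.noeth U hU
    RGammaI.ac_of_ti s fun i =>
      haveI : Injective ((stA O hx).obj (J.X i)) :=
        haveI := hJ i; FSchTors.injective_stA (J.X i) hx (D.relGen U hU)
      haveI := LocH.injective_gammaI_obj (D.J U hU) ((stA O hx).obj (J.X i))
      Injective.of_iso ((gammaIso D hU hx).app (J.X i)).symm this

include D in
theorem isIso_map_ε (K : DerivedCategory (ModSite.Mod O)) :
    IsIso ((FTors.Rgamma I).map ((FTors.Rgammaε I).app K)) := by
  obtain ⟨J, -, h2, h4, ⟨e⟩⟩ := exists_rep D K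
  haveI := isIso_gα D h2
  haveI := isIso_gα D (sa_gc D h4)
  haveI := isIso_gm_gι D J
  haveI := isIso_qhm (gm I (gι I J))
  have h : IsIso ((FTors.Rgamma I).map ((FTors.Rgammaε I).app (qh J))) := by
    have e' : gα I (gc I J) ≫ (FTors.Rgamma I).map (gα I J) ≫
        (FTors.Rgamma I).map ((FTors.Rgammaε I).app (qh J)) =
        qhm (gm I (gι I J)) ≫ gα I J := by
      rw [← Functor.map_comp, gα_ε, gα_natural]
    have : IsIso (gα I (gc I J) ≫ (FTors.Rgamma I).map (gα I J) ≫
        (FTors.Rgamma I).map ((FTors.Rgammaε I).app (qh J))) := by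
      rw [e']; infer_instance
    haveI := IsIso.of_isIso_comp_left (gα I (gc I J)) ((FTors.Rgamma I).map (gα I J) ≫
        (FTors.Rgamma I).map ((FTors.Rgammaε I).app (qh J)))
    exact IsIso.of_isIso_comp_left ((FTors.Rgamma I).map (gα I J)) _
  exact (NatTrans.isIso_app_iff_of_iso
    (Functor.whiskerRight (FTors.Rgammaε I) (FTors.Rgamma I)) e).1 h

include D in
/-- the two maps `RΓ' RΓ' K → RΓ' K` agree -/
theorem map_ε_eq (K : DerivedCategory (ModSite.Mod O)) :
    (FTors.Rgamma I).map ((FTors.Rgammaε I).app K) =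
      (FTors.Rgammaε I).app ((FTors.Rgamma I).obj K) := by
  obtain ⟨J, -, h2, h4, ⟨e⟩⟩ := exists_rep D K
  haveI := isIso_gα D h2
  haveI := isIso_gα D (sa_gc D h4)
  suffices h : (FTors.Rgamma I).map ((FTors.Rgammaε I).app (qh J)) =
      (FTors.Rgammaε I).app ((FTors.Rgamma I).obj (qh J)) by
    have n1 := congrArg (FTors.Rgamma I).map ((FTors.Rgammaε I).naturality e.hom)
    have n2 := (FTors.Rgammaε I).naturality ((FTors.Rgamma I).map e.hom)
    simp only [Functor.id_map] at n1 n2
    rw [Functor.map_comp, Functor.map_comp, h] at n1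
    rw [← cancel_epi ((FTors.Rgamma I).map ((FTors.Rgamma I).map e.hom))]
    exact n1.trans n2.symm
  have hαι : gm I (gι I J) = gι I (gc I J) := by
    haveI : ∀ i, Mono ((gι I J).f i) := fun i => RSFin.mono_of_injective _ fun V a b e => Subtype.ext e
    ext i : 1
    rw [← cancel_mono ((gι I J).f i)]
    exact (FTors.gammaι I).naturality ((gι I J).f i)
  have n := (FTors.Rgammaε I).naturality (gα I J)
  simp only [Functor.id_map] at n
  rw [← cancel_epi (gα I (gc I J) ≫ (FTors.Rgamma I).map (gα I J)), Category.assoc, Category.assoc,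
    n, ← Functor.map_comp, gα_ε, ← gα_natural, hαι, ← gα_ε, Category.assoc]
  rfl

include D in
/-- `RΓ' K → K` is an isomorphism for torsion cohomology -/
theorem isIso_ε {K : DerivedCategory (ModSite.Mod O)} (hX : FTors.IsDTors I K) :
    IsIso ((FTors.Rgammaε I).app K) := by
  obtain ⟨J, -, h2, h4, ⟨e⟩⟩ := exists_rep D K
  haveI := isIso_gα D h2
  haveI := quasiIso_gι D h2 ((isDTors_iff e).1 hX)
  haveI := isIso_qhm (gι I J)
  have : IsIso (gα I J ≫ (FTors.Rgammaε I).app (qh J)) := by rw [gα_ε]; infer_instance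
  have := IsIso.of_isIso_comp_left (gα I J) ((FTors.Rgammaε I).app (qh J))
  exact (NatTrans.isIso_app_iff_of_iso (FTors.Rgammaε I) e).1 this

include D in
/-- the cohomology of `RΓ' K` is torsion -/
theorem isDTors_Rgamma (K : DerivedCategory (ModSite.Mod O)) :
    FTors.IsDTors I ((FTors.Rgamma I).obj K) := by
  obtain ⟨J, -, h2, h4, ⟨e⟩⟩ := exists_rep D K
  haveI := isIso_gα D h2
  exact (isDTors_iff (J := gc I J) (asIso (gα I J) ≪≫ (FTors.Rgamma I).mapIso e)).2
    (isTors_homology_gc D J)


include D in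
theorem bijective_comp_ε {E : DerivedCategory (ModSite.Mod O)} (hE : FTors.IsDTors I E)
    (F : DerivedCategory (ModSite.Mod O)) :
    Function.Bijective fun φ : E ⟶ (FTors.Rgamma I).obj F => φ ≫ (FTors.Rgammaε I).app F := by
  haveI := isIso_ε D hE
  have n : ∀ {X Y : DerivedCategory (ModSite.Mod O)} (f : X ⟶ Y),
      (FTors.Rgamma I).map f ≫ (FTors.Rgammaε I).app Y = (FTors.Rgammaε I).app X ≫ f :=
    fun f => (FTors.Rgammaε I).naturality f
  refine Function.bijective_iff_has_inverse.2
    ⟨fun ψ => inv ((FTors.Rgammaε I).app E) ≫ (FTors.Rgamma I).map ψ, fun φ => ?_, fun ψ => ?_⟩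
  · simp only
    rw [IsIso.inv_comp_eq, Functor.map_comp, map_ε_eq D F]
    exact n φ
  · simp only [Category.assoc]
    rw [IsIso.inv_comp_eq]
    exact n ψ

end Groth.Agent.FamTors
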