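import Groth.Agent.FamTors.Torsion
import Groth.Agent.RSFin.Sect
import Groth.Prelude.Def_FTors3
import Mathlib.AlgebraicGeometry.Noetherian

/-!
# Powers of an ideal sheaf on a locally noetherian scheme
-/

universe u

open CategoryTheory CategoryTheory.Limits AlgebraicGeometry TopologicalSpace Opposite
open Groth.Agent.RSFin (sc rsR rs)
open Groth.Agent.FSchTors (stA gst gst_rs gst_smul)

set_option autoImplicit false
set_option backward.isDefEq.respectTransparency false
set_option backward.isDefEq.respectTransparency.types false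
set_option linter.style.haveILetI false

noncomputable section

namespace Groth.Agent.FamTors

variable {X : Scheme.{u}} [IsLocallyNoetherian X] (𝓘 : X.IdealSheafData)

theorem isNoetherianRing_sc {U : X.Opens} (hU : IsAffineOpen U) : IsNoetherianRing (sc X.sheaf U) :=
  IsLocallyNoetherian.component_noetherian (X := X) ⟨U, hU⟩

/-- relations between functions on an affine open are finitely generated -/
theorem hasRelGen_scheme {U : X.Opens} (hU : IsAffineOpen U) : RSInj.HasRelGen X.sheaf U := by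
  classical
  intro k a
  haveI := isNoetherianRing_sc hU
  let φ : (Fin k → sc X.sheaf U) →ₗ[sc X.sheaf U] sc X.sheaf U := Fintype.linearCombination (sc X.sheaf U) a
  obtain ⟨q, e, he⟩ := Submodule.fg_iff_exists_fin_generating_family.1 (IsNoetherian.noetherian (LinearMap.ker φ))
  refine ⟨Fin q, inferInstance, e, fun l => ?_, fun V h c hc y hy => ?_⟩
  · have hl : e l ∈ LinearMap.ker φ := he ▸ Submodule.subset_span ⟨l, rfl⟩
    rw [LinearMap.mem_ker, Fintype.linearCombination_apply] at hl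
    simpa [smul_eq_mul] using hl
  obtain ⟨f, hfV, hyf⟩ := hU.exists_basicOpen_le (V := V) ⟨y, hy⟩ (h hy)
  let W := X.basicOpen f
  have hWU : W ≤ U := X.basicOpen_le f
  letI := ((rsR hWU : sc X.sheaf U →+* sc X.sheaf W)).toAlgebra
  let f' : sc X.sheaf U := f
  haveI : IsLocalization.Away f' (sc X.sheaf W) := hU.isLocalization_basicOpen f
  have halg : ∀ z : sc X.sheaf U, algebraMap (sc X.sheaf U) (sc X.sheaf W) z = rsR hWU z := fun _ => rfl
  obtain ⟨⟨b, hb⟩, hb'⟩ := IsLocalization.exist_integer_multiples (Submonoid.powers f') Finset.univ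
    (fun j => (rsR hfV (c j) : sc X.sheaf W))
  choose c' hc' using fun j => hb' j (Finset.mem_univ j)
  have h0 : algebraMap (sc X.sheaf U) (sc X.sheaf W) (∑ j, c' j * a j) =
      algebraMap (sc X.sheaf U) (sc X.sheaf W) 0 := by
    rw [map_sum, map_zero]
    have h1 := congrArg (rsR hfV) hc
    rw [map_sum, map_zero] at h1
    have h2 : algebraMap (sc X.sheaf U) (sc X.sheaf W) b * (∑ j, rsR hfV (c j * rsR h (a j))) = 0 :=
      (congrArg (algebraMap (sc X.sheaf U) (sc X.sheaf W) b * ·) h1).trans (mul_zero _)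
    rw [Finset.mul_sum] at h2
    refine Eq.trans ?_ h2
    refine Finset.sum_congr rfl fun j _ => ?_
    rw [map_mul, hc', Algebra.smul_def, map_mul, RSFin.rsR_rsR, mul_assoc]
    rfl
  obtain ⟨⟨d, hd⟩, hd'⟩ := (IsLocalization.eq_iff_exists (Submonoid.powers f') (sc X.sheaf W)).1 h0
  have hker : (fun j => d * c' j) ∈ LinearMap.ker φ := by
    rw [LinearMap.mem_ker, Fintype.linearCombination_apply]
    simp only [smul_eq_mul, mul_zero, Finset.mul_sum] at hd' ⊢
    simpa [mul_assoc] using hd'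
  obtain ⟨g, hg⟩ := (Submodule.mem_span_range_iff_exists_fun _).1 (he.ge hker)
  obtain ⟨u, hu⟩ := IsLocalization.map_units (sc X.sheaf W) (⟨d, hd⟩ * ⟨b, hb⟩ : Submonoid.powers f')
  refine ⟨W, hfV, hyf, fun l => ↑u⁻¹ * rsR hWU (g l), fun j => ?_⟩
  have h3 := congrArg (rsR hWU) (congrFun hg j)
  rw [Finset.sum_apply, map_sum] at h3
  simp only [Pi.smul_apply, smul_eq_mul, map_mul] at h3
  have h4 : (↑u : sc X.sheaf W) * rsR hfV (c j) = rsR hWU d * rsR hWU (c' j) := by
    rw [hu, ← halg (c' j), hc', Algebra.smul_def, Submonoid.coe_mul, map_mul, mul_assoc]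
    rfl
  rw [← Units.inv_mul_cancel_left u (rsR hfV (c j)), h4, ← h3, Finset.mul_sum]
  exact Finset.sum_congr rfl fun l _ => mul_assoc _ _ _

omit [IsLocallyNoetherian X] in
theorem pow_le_ideal {W : X.Opens} (hW : IsAffineOpen W) (n : ℕ) :
    𝓘.ideal ⟨W, hW⟩ ^ n ≤ (FTors.powIdealFam X 𝓘).ideal n W := fun a ha => by
  rw [FTors.mem_powIdealFam_iff]
  intro W' hle
  have h1 := Ideal.mem_map_of_mem (X.presheaf.map (homOfLE hle).op).hom ha
  rw [Ideal.map_pow] at h1
  erw [Scheme.IdealSheafData.map_ideal 𝓘 (U := W') (V := ⟨W, hW⟩) hle] at h1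
  exact h1

omit [IsLocallyNoetherian X] in
theorem exists_mem_map {U W : X.Opens} (hU : IsAffineOpen U) (hW : IsAffineOpen W) (h : W ≤ U) (n : ℕ) :
    𝓘.ideal ⟨W, hW⟩ ^ n = (𝓘.ideal ⟨U, hU⟩ ^ n).map (rsR h : sc X.sheaf U →+* sc X.sheaf W) := by
  rw [Ideal.map_pow]
  erw [Scheme.IdealSheafData.map_ideal 𝓘 (U := ⟨W, hW⟩) (V := ⟨U, hU⟩) h]

omit [IsLocallyNoetherian X] in
/-- killed by the ideal of an affine open is killed by the family -/
theorem killedBy_of_smul {F : ModSite.Mod X.sheaf} {W : X.Opens} (hW : IsAffineOpen W) (n : ℕ)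
    (t : ModSite.sect F W) (h : ∀ a ∈ 𝓘.ideal ⟨W, hW⟩ ^ n, (show sc X.sheaf W from a) • t = 0) :
    FTors.KilledBy (FTors.powIdealFam X 𝓘) F n t := by
  intro V g a ha
  refine RSFin.eq_zero_of_locally F _ fun p hp => ?_
  obtain ⟨W₀, hW₀, hp₀, hle₀⟩ := exists_isAffineOpen_mem_and_subset (U := V) (x := p) hp
  refine ⟨W₀, hle₀, hp₀, ?_⟩
  rw [RSFin.rs_smul]
  have h0 : (rsR hle₀ a : Γ(X, W₀)) ∈ 𝓘.ideal ⟨W₀, hW₀⟩ ^ n :=
    (FTors.mem_powIdealFam_iff X 𝓘 n V a).1 ha ⟨W₀, hW₀⟩ hle₀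
  rw [exists_mem_map 𝓘 hW hW₀ (le_trans hle₀ g.le) n, Ideal.map] at h0
  change rsR hle₀ a • rs F hle₀ (rs F g.le t) = 0
  rw [RSFin.rs_rs]
  clear ha
  generalize rsR hle₀ a = z at h0 ⊢
  induction h0 using Submodule.span_induction with
  | mem z hz =>
    obtain ⟨b, hb, rfl⟩ := hz
    exact (RSFin.rs_smul F _ b t).symm.trans ((congrArg _ (h b hb)).trans (map_zero _))
  | zero => exact zero_smul _ _
  | add y z _ _ hy hz => rw [add_smul, hy, hz, add_zero]
  | smul r z _ hz => rw [smul_eq_mul, mul_smul, hz, smul_zero]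

theorem germ_iff_scheme {U : X.Opens} (hU : IsAffineOpen U) {x : X} (hx : x ∈ U) (F : ModSite.Mod X.sheaf)
    {V : X.Opens} (hV : x ∈ V) (hVU : V ≤ U) (t : ModSite.sect F V) :
    gst F hx hV t ∈ DRing.torsionSub (𝓘.ideal ⟨U, hU⟩ : Ideal (sc X.sheaf U)) ((stA X.sheaf hx).obj F) ↔
      ∃ (W : X.Opens) (hW : W ≤ V) (n : ℕ), x ∈ W ∧ FTors.KilledBy (FTors.powIdealFam X 𝓘) F n (rs F hW t) := by
  classical
  constructor
  · rintro ⟨n, hn⟩
    haveI := isNoetherianRing_sc hU
    let Iu : Ideal (sc X.sheaf U) := 𝓘.ideal ⟨U, hU⟩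
    obtain ⟨k, b, hb⟩ := Submodule.fg_iff_exists_fin_generating_family.1
      (IsNoetherian.noetherian (Iu ^ n : Ideal (sc X.sheaf U)))
    obtain ⟨W, hW, hxW, hbW⟩ := RSFin.exists_rs_eq F hV (a := fun i => rsR hVU (b i) • t) (b := fun _ => 0) fun i => by
      refine (RSStalk.fibAdd F x).injective ((gst_smul F hx hV hVU (b i) t).trans ?_)
      have hbi : b i ∈ Iu ^ n := hb.le (Submodule.subset_span ⟨i, rfl⟩)
      exact (hn (b i) hbi).trans (by rw [map_zero, map_zero])
    obtain ⟨W', hW', hxW', hle⟩ := exists_isAffineOpen_mem_and_subset (U := W) (x := x) hxW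
    refine ⟨W', le_trans hle hW, n, hxW', killedBy_of_smul 𝓘 hW' n _ fun c hc => ?_⟩
    have hd : W' ≤ U := le_trans (le_trans hle hW) hVU
    rw [exists_mem_map 𝓘 hU hW' hd n, Ideal.map] at hc
    have h0 : ∀ i, rsR hd (b i) • rs F (le_trans hle hW) t = 0 := fun i => by
      have := congrArg (rs F hle) (hbW i)
      rwa [RSFin.rs_smul, RSFin.rs_smul, map_zero, RSFin.rs_rs, map_zero, RSFin.rsR_rsR, RSFin.rsR_rsR] at this
    induction hc using Submodule.span_induction with
    | mem z hz =>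
      obtain ⟨y, hy, rfl⟩ := hz
      obtain ⟨f, rfl⟩ := (Submodule.mem_span_range_iff_exists_fun _).1 (hb.ge hy)
      rw [map_sum, Finset.sum_smul]
      exact Finset.sum_eq_zero fun i _ => by
        rw [smul_eq_mul, map_mul, mul_smul]
        exact (congrArg _ (h0 i)).trans (smul_zero _)
    | zero => exact zero_smul _ _
    | add y z _ _ hy hz =>
      exact (add_smul (show sc X.sheaf W' from y) z _).trans (by rw [hy, hz, add_zero])
    | smul r z _ hz => exact (mul_smul (show sc X.sheaf W' from r) z _).trans (by rw [hz, smul_zero])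
  · rintro ⟨W, hW, n, hxW, hk⟩
    refine ⟨n, fun a ha => ?_⟩
    rw [← gst_rs F hx hW hxW]
    refine (gst_smul F hx hxW (le_trans hW hVU) a _).symm.trans ?_
    have h1 := hk (𝟙 W) (rsR (le_trans hW hVU) a)
      ((FTors.powIdealFam X 𝓘).map_mem n (homOfLE (le_trans hW hVU)) (pow_le_ideal 𝓘 hU n ha))
    rw [FTors.res_id] at h1
    rw [h1, map_zero]

/-- the torsion for powers of an ideal sheaf is given on affine opens -/
def powDatum : Datum (FTors.powIdealFam X 𝓘) where
  P := IsAffineOpen (X := X)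
  cover x := by
    obtain ⟨U, hU, hx, -⟩ := exists_isAffineOpen_mem_and_subset (U := (⊤ : X.Opens)) (x := x) trivial
    exact ⟨U, hU, hx⟩
  J U hU := 𝓘.ideal ⟨U, hU⟩
  noeth _ hU := isNoetherianRing_sc hU
  relGen _ hU := hasRelGen_scheme hU
  germ_iff hU _ hx F _ hV hVU t := germ_iff_scheme 𝓘 hU hx F hV hVU t

end Groth.Agent.FamTors
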