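import Groth.Agent.FSchTors.Stalk
import Groth.Agent.RGammaI.Acyclic
import Groth.Prelude.Def_FTors2
import Mathlib.Algebra.Homology.ShortComplex.PreservesHomology

/-!
# The torsion subcomplex for a family of ideals given on good opens by powers of ideals
-/

universe u

open CategoryTheory CategoryTheory.Limits TopologicalSpace Opposite
open Groth.Agent.RSFin (sc rsR rs)
open Groth.Agent.FSchTors (stA gst gst_rs gst_map exists_gst isIso_of_stA)

set_option autoImplicit false
set_option backward.isDefEq.respectTransparency false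
set_option linter.style.haveILetI false

noncomputable section

namespace Groth.Agent.FamTors

variable {X : TopCat.{u}} {O : TopCat.Sheaf CommRingCat.{u} X}

/-- good opens on which the torsion for the family is the torsion for powers of an ideal -/
structure Datum (I : FTors.IdealFam O) where
  P : Opens X → Prop
  cover : ∀ x : X, ∃ U, P U ∧ x ∈ U
  J : ∀ U : Opens X, P U → Ideal (sc O U)
  noeth : ∀ U, P U → IsNoetherianRing (sc O U)
  relGen : ∀ U, P U → RSInj.HasRelGen O U
  germ_iff : ∀ {U : Opens X} (hU : P U) {x : X} (hx : x ∈ U) (F : ModSite.Mod O) {V : Opens X} (hV : x ∈ V)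
    (_ : V ≤ U) (t : ModSite.sect F V),
    gst F hx hV t ∈ DRing.torsionSub (J U hU) ((stA O hx).obj F) ↔
      ∃ (W : Opens X) (hW : W ≤ V) (n : ℕ), x ∈ W ∧ FTors.KilledBy I F n (rs F hW t)

variable {I : FTors.IdealFam O}

theorem isTorsSect_iff {F : ModSite.Mod O} {V : Opens X} (t : ModSite.sect F V) :
    FTors.IsTorsSect I F t ↔
      ∀ y ∈ V, ∃ (W : Opens X) (hW : W ≤ V) (n : ℕ), y ∈ W ∧ FTors.KilledBy I F n (rs F hW t) := by
  constructor
  · intro h y hy
    obtain ⟨W, g, ⟨n, hn⟩, hyW⟩ := h y hy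
    exact ⟨W, g.le, n, hyW, hn⟩
  · intro h y hy
    obtain ⟨W, hW, n, hyW, hn⟩ := h y hy
    exact ⟨W, homOfLE hW, ⟨n, hn⟩, hyW⟩

theorem isTors_of_iso {F G : ModSite.Mod O} (e : F ≅ G) (h : FTors.IsTors I G) : FTors.IsTors I F := fun V t => by
  have h1 : t = RSFin.ap e.inv V (RSFin.ap e.hom V t) := by rw [← RSFin.ap_comp, e.hom_inv_id, RSFin.ap_id]
  rw [h1]
  exact (h V _).hom e.inv

variable (D : Datum I)

section Germ

variable {U : Opens X} (hU : D.P U) {x : X} (hx : x ∈ U) (F : ModSite.Mod O)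

/-- the inclusion of the torsion submodule, on stalks -/
theorem stA_gammaι_injective :
    Function.Injective ((stA O hx).map ((FTors.gammaι I).app F)) := by
  haveI : Mono ((FTors.gammaι I).app F) := RSFin.mono_of_injective _ fun V a b e => Subtype.ext e
  exact (ModuleCat.mono_iff_injective _).1 inferInstance

include hU

theorem stA_gammaι_mem (e : (stA O hx).obj ((FTors.gamma O I).obj F)) :
    (stA O hx).map ((FTors.gammaι I).app F) e ∈ DRing.torsionSub (D.J U hU) ((stA O hx).obj F) := by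
  obtain ⟨V, hVU, hV, t, rfl⟩ := exists_gst _ hx e
  erw [gst_map]
  obtain ⟨W, hW, n, hxW, hk⟩ := (isTorsSect_iff _).1 (t : FTors.torsSub I F V).2 x hV
  exact (D.germ_iff hU hx F hV hVU _).2 ⟨W, hW, n, hxW, hk⟩

theorem stA_gammaι_surjective (e : (stA O hx).obj F)
    (he : e ∈ DRing.torsionSub (D.J U hU) ((stA O hx).obj F)) :
    ∃ e', (stA O hx).map ((FTors.gammaι I).app F) e' = e := by
  obtain ⟨V, hVU, hV, t, rfl⟩ := exists_gst _ hx e
  obtain ⟨W, hW, n, hxW, hk⟩ := (D.germ_iff hU hx F hV hVU t).1 he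
  let s : ModSite.sect ((FTors.gamma O I).obj F) W := ⟨rs F hW t, FTors.IsTorsSect.of_killedBy hk⟩
  exact ⟨gst _ hx hxW s, (gst_map _ hx hxW s).trans (gst_rs F hx hW hxW t)⟩

/-- the stalk of the torsion submodule -/
def gammaIsoObj : (stA O hx).obj ((FTors.gamma O I).obj F) ≅
    (DRing.gammaI (D.J U hU)).obj ((stA O hx).obj F) :=
  (LinearEquiv.ofBijective
    (LinearMap.codRestrict _ ((stA O hx).map ((FTors.gammaι I).app F)).hom (stA_gammaι_mem D hU hx F))
    ⟨fun _ _ e => stA_gammaι_injective hx F (congrArg Subtype.val e), fun z => by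
      obtain ⟨e', he'⟩ := stA_gammaι_surjective D hU hx F z.1 z.2
      exact ⟨e', Subtype.ext he'⟩⟩).toModuleIso

/-- stalks commute with the torsion functors -/
def gammaIso : FTors.gamma O I ⋙ stA O hx ≅ stA O hx ⋙ DRing.gammaI (D.J U hU) :=
  NatIso.ofComponents (gammaIsoObj D hU hx) fun {F G} φ => by
    ext e
    apply Subtype.ext
    have h := (stA O hx).congr_map ((FTors.gammaι I).naturality φ)
    rw [Functor.map_comp, Functor.map_comp] at h
    exact congr($h e)

theorem isPowerTorsion_stA (hF : FTors.IsTors I F) :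
    LocCoh.IsPowerTorsion (D.J U hU) ((stA O hx).obj F) := fun e => by
  obtain ⟨V, hVU, hV, t, rfl⟩ := exists_gst _ hx e
  obtain ⟨W, hW, n, hxW, hk⟩ := (isTorsSect_iff _).1 (hF V t) x hV
  exact (D.germ_iff hU hx F hV hVU t).2 ⟨W, hW, n, hxW, hk⟩

end Germ

include D in
/-- a module all of whose stalks are torsion is torsion -/
theorem isTors_of_stA {F : ModSite.Mod O}
    (h : ∀ {U : Opens X} (hU : D.P U) {x : X} (hx : x ∈ U), LocCoh.IsPowerTorsion (D.J U hU) ((stA O hx).obj F)) :
    FTors.IsTors I F := fun V t => (isTorsSect_iff t).2 fun y hy => by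
  obtain ⟨U, hU, hyU⟩ := D.cover y
  obtain ⟨W, hW, n, hyW, hk⟩ := (D.germ_iff hU hyU F (V := V ⊓ U) ⟨hy, hyU⟩ inf_le_right
    (rs F inf_le_left t)).1 (h hU hyU _)
  exact ⟨W, hW.trans inf_le_left, n, hyW, by rwa [RSFin.rs_rs] at hk⟩

/-- `Γ` on complexes -/
abbrev gc (I : FTors.IdealFam O) (J : CochainComplex (ModSite.Mod O) ℤ) : CochainComplex (ModSite.Mod O) ℤ :=
  ((FTors.gamma O I).mapHomologicalComplex (ComplexShape.up ℤ)).obj J

/-- `Γ` on maps of complexes -/
abbrev gm (I : FTors.IdealFam O) {J J' : CochainComplex (ModSite.Mod O) ℤ} (f : J ⟶ J') : gc I J ⟶ gc I J' :=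
  ((FTors.gamma O I).mapHomologicalComplex (ComplexShape.up ℤ)).map f

/-- `Γ J → J` -/
def gι (I : FTors.IdealFam O) (J : CochainComplex (ModSite.Mod O) ℤ) : gc I J ⟶ J where
  f i := (FTors.gammaι I).app (J.X i)
  comm' i j _ := ((FTors.gammaι I).naturality (J.d i j)).symm

lemma gι_natural {J J' : CochainComplex (ModSite.Mod O) ℤ} (f : J ⟶ J') :
    gm I f ≫ gι I J' = gι I J ≫ f := by
  ext i : 1
  exact (FTors.gammaι I).naturality (f.f i)

variable {U : Opens X} (hU : D.P U) {x : X} (hx : x ∈ U)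

/-- stalks of complexes -/
abbrev stC (O : TopCat.Sheaf CommRingCat.{u} X) {U : Opens X} {x : X} (hx : x ∈ U) :
    CochainComplex (ModSite.Mod O) ℤ ⥤ DRing.Cx (sc O U) :=
  (stA O hx).mapHomologicalComplex (ComplexShape.up ℤ)

/-- the stalk of `Γ J` -/
def stGcIso (J : CochainComplex (ModSite.Mod O) ℤ) :
    (stC O hx).obj (gc I J) ≅ RGammaI.gc (D.J U hU) ((stC O hx).obj J) :=
  HomologicalComplex.Hom.isoOfComponents (fun i => (gammaIso D hU hx).app (J.X i))
    fun i j _ => ((gammaIso D hU hx).hom.naturality (J.d i j)).symm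

theorem stGcIso_gι (J : CochainComplex (ModSite.Mod O) ℤ) :
    (stGcIso D hU hx J).hom ≫ RGammaI.gι (D.J U hU) ((stC O hx).obj J) = (stC O hx).map (gι I J) := by
  ext i : 1
  rfl

omit hU hx in
/-- all stalks are adapted to every finite system of generators of the ideal -/
def SA (J : CochainComplex (ModSite.Mod O) ℤ) : Prop :=
  ∀ {U : Opens X} (hU : D.P U) {x : X} (hx : x ∈ U) (s : Finset (sc O U)),
    Ideal.span (s : Set (sc O U)) = D.J U hU → RGammaI.AC s ((stC O hx).obj J)

omit hU hx in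
theorem sa_of_injective {J : CochainComplex (ModSite.Mod O) ℤ} (hJ : ∀ i, Injective (J.X i)) : SA D J :=
  fun {U} hU {x} hx s _ =>
    haveI := D.noeth U hU
    RGammaI.ac_of_ti s fun i => haveI := hJ i; FSchTors.injective_stA (J.X i) hx (D.relGen U hU)

omit hU hx in
/-- quasi-isomorphisms are detected on stalks -/
theorem quasiIso_of_stC {J J' : CochainComplex (ModSite.Mod O) ℤ} (f : J ⟶ J')
    (h : ∀ {U : Opens X} (_ : D.P U) {x : X} (hx : x ∈ U), QuasiIso ((stC O hx).map f)) :
    QuasiIso f := ⟨fun i => by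
  rw [quasiIsoAt_iff_isIso_homologyMap]
  refine isIso_of_stA _ fun x => ?_
  obtain ⟨U, hU, hxU⟩ := D.cover x
  refine ⟨U, hxU, ?_⟩
  haveI := h hU hxU
  haveI : IsIso (ShortComplex.homologyMap ((stA O hxU).mapShortComplex.map
      ((HomologicalComplex.shortComplexFunctor _ (ComplexShape.up ℤ) i).map f))) :=
    inferInstanceAs (IsIso (HomologicalComplex.homologyMap ((stC O hxU).map f) i))
  have h1 := ShortComplex.mapHomologyIso_hom_naturality
    ((HomologicalComplex.shortComplexFunctor _ (ComplexShape.up ℤ) i).map f) (stA O hxU)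
  exact IsIso.of_isIso_fac_left h1.symm⟩

omit hU in
/-- the homology of a stalk -/
def stHomIso (J : CochainComplex (ModSite.Mod O) ℤ) (i : ℤ) :
    ((stC O hx).obj J).homology i ≅ (stA O hx).obj (J.homology i) :=
  ShortComplex.mapHomologyIso (J.sc i) (stA O hx)

theorem isPowerTorsion_of_iso {A : Type u} [CommRing A] {K : Ideal A} {M N : ModuleCat.{u} A} (e : M ≅ N)
    (h : LocCoh.IsPowerTorsion K N) : LocCoh.IsPowerTorsion K M := fun m => by
  obtain ⟨n, hn⟩ := h (e.toLinearEquiv m)
  exact ⟨n, fun a ha => e.toLinearEquiv.injective (by rw [map_smul, map_zero]; exact hn a ha)⟩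

omit hU hx in
theorem exists_gen {U : Opens X} (hU : D.P U) : ∃ s : Finset (sc O U), Ideal.span (s : Set (sc O U)) = D.J U hU :=
  haveI := D.noeth U hU
  IsNoetherian.noetherian (D.J U hU)

omit hU hx in
/-- `Γ J → J` for an adapted complex with torsion cohomology -/
theorem quasiIso_gι {J : CochainComplex (ModSite.Mod O) ℤ} (hJ : SA D J)
    (h : ∀ i, FTors.IsTors I (J.homology i)) : QuasiIso (gι I J) :=
  quasiIso_of_stC D _ fun {U} hU {x} hx => by
    obtain ⟨s, hs⟩ := exists_gen D hU
    haveI : QuasiIso (RGammaI.gι (D.J U hU) ((stC O hx).obj J)) := by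
      have := RGammaI.quasiIso_gι_ac (hJ hU hx s hs) fun i => by
        rw [hs]; exact isPowerTorsion_of_iso (stHomIso hx J i) (isPowerTorsion_stA D hU hx _ (h i))
      rwa [hs] at this
    rw [← stGcIso_gι D hU hx]
    infer_instance

omit hU hx in
include D in
/-- the cohomology of `Γ J` is torsion -/
theorem isTors_homology_gc (J : CochainComplex (ModSite.Mod O) ℤ) (i : ℤ) :
    FTors.IsTors I ((gc I J).homology i) :=
  isTors_of_stA D fun {U} hU {x} hx =>
    isPowerTorsion_of_iso ((stHomIso hx (gc I J) i).symm ≪≫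
      (HomologicalComplex.homologyFunctor _ _ i).mapIso (stGcIso D hU hx J))
      (RGammaI.isPowerTorsion_homology_gc _ _ i)

omit hU hx in
/-- `Γ` preserves quasi-isomorphisms between adapted complexes -/
theorem quasiIso_gm {J J' : CochainComplex (ModSite.Mod O) ℤ} (hJ : SA D J) (hJ' : SA D J')
    (f : J ⟶ J') [QuasiIso f] : QuasiIso (gm I f) :=
  quasiIso_of_stC D _ fun {U} hU {x} hx => by
    obtain ⟨s, hs⟩ := exists_gen D hU
    haveI : QuasiIso (RGammaI.gm (D.J U hU) ((stC O hx).map f)) := by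
      have := RGammaI.quasiIso_gm_ac (hJ hU hx s hs) (hJ' hU hx s hs) ((stC O hx).map f)
      rwa [hs] at this
    have e : (stC O hx).map (gm I f) ≫ (stGcIso D hU hx J').hom = (stGcIso D hU hx J).hom ≫
        RGammaI.gm (D.J U hU) ((stC O hx).map f) := by
      ext i : 1
      exact (gammaIso D hU hx).hom.naturality (f.f i)
    haveI : QuasiIso ((stC O hx).map (gm I f) ≫ (stGcIso D hU hx J').hom) := by rw [e]; infer_instance
    exact quasiIso_of_comp_right _ (stGcIso D hU hx J').hom

end Groth.Agent.FamTors
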